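import Cfsg.Agent.Lib.RankOne.Transfer
import Cfsg.Agent.S0033
import Cfsg.Agent.S0065

/-!
The rank-one set-up with two commuting involutions: `Q` is nilpotent, and the involutions of `G_a`
are central in `Q`.
-/

set_option autoImplicit false

namespace Cfsg.Agent.Lib.RankOne.Elem

open Cfsg.Agent.Lib.RankOne.Basic Cfsg.Agent.Lib.RankOne.Invol Cfsg.Agent.Lib.RankOne.Struct
open Cfsg.Agent.Lib.RankOne.Transfer

variable {G Ω : Type*} [Group G] [Finite G] [MulAction G Ω] {a : Ω} {t : G} {Q : Subgroup G}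

/-- two distinct involutions in `G_a` -/
theorem exists_two_invol (hS : Cfsg.IsRankOneSetup G Ω a t Q)
    (h2 : ∃ x y : G, x ≠ 1 ∧ y ≠ 1 ∧ x ≠ y ∧ x * x = 1 ∧ y * y = 1 ∧ x * y = y * x) :
    ∃ s ∈ IA G a, ∃ s' ∈ IA G a, s ≠ s' := by
  obtain ⟨x, y, hx1, hy1, hxy, hx2, hy2, hc⟩ := h2
  obtain ⟨c, hc1, -⟩ := exists_unique_fix hS hx1 hx2
  have hyc : y • c = c := fix_of_commute hS hx1 hx2 hc hc1
  obtain ⟨g, hg⟩ : ∃ g : G, g • c = a := by
    by_cases hca : c = a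
    · exact ⟨1, by rw [one_smul, hca]⟩
    obtain ⟨g, hg, -⟩ := two_trans hS hca (ta_ne hS).symm
    exact ⟨g, hg⟩
  have hmem : ∀ u : G, u ≠ 1 → u * u = 1 → u • c = c → g * u * g⁻¹ ∈ IA G a := by
    intro u hu1 hu2 huc
    refine ⟨?_, conj_ne_one hu1, conj_sq hu2⟩
    show (g * u * g⁻¹) • a = a
    rw [← hg, smul_smul, mul_assoc, mul_assoc, inv_mul_cancel, mul_one, mul_smul, huc]
  refine ⟨_, hmem x hx1 hx2 hc1, _, hmem y hy1 hy2 hyc, ?_⟩
  intro e
  apply hxy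
  exact mul_left_cancel (mul_right_cancel e)

theorem pow_mem_KK {k : G} (hk : k ∈ KK G a t) (n : ℕ) : k ^ n ∈ KK G a t := by
  refine ⟨Subgroup.pow_mem _ hk.1 n, ?_⟩
  have := conj_pow (a := t) (b := k) (i := n)
  rw [← this, hk.2, inv_pow]

/-- `Q` is nilpotent. -/
theorem nilpotent (hS : Cfsg.IsRankOneSetup G Ω a t Q)
    (h2 : ∃ x y : G, x ≠ 1 ∧ y ≠ 1 ∧ x ≠ y ∧ x * x = 1 ∧ y * y = 1 ∧ x * y = y * x) :
    Group.IsNilpotent Q := by
  obtain ⟨s, hs, s', hs', hne⟩ := exists_two_invol hS h2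
  obtain ⟨k, hk, hkc⟩ := exists_K_conj hS hs hs'
  have hk1 : k ≠ 1 := by
    rintro rfl
    apply hne
    rw [← hkc]
    group
  -- prime power
  have hord1 : orderOf k ≠ 1 := by
    rw [Ne, orderOf_eq_one_iff]
    exact hk1
  obtain ⟨p, hp, hpd⟩ := Nat.exists_prime_and_dvd hord1
  obtain ⟨m, hm⟩ := hpd
  have hord0 : 0 < orderOf k := orderOf_pos k
  have hm0 : 0 < m := by
    rcases Nat.eq_zero_or_pos m with h0 | h0
    · rw [h0, mul_zero] at hm
      omega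
    · exact h0
  set k' := k ^ m with hk'def
  have hk'K : k' ∈ KK G a t := pow_mem_KK hk m
  have hk'p : k' ^ p = 1 := by
    rw [hk'def, ← pow_mul, mul_comm, ← hm, pow_orderOf_eq_one]
  have hk'1 : k' ≠ 1 := by
    apply pow_ne_one_of_lt_orderOf hm0.ne'
    rw [hm]
    have := hp.two_le
    nlinarith
  have hfix : k' • a = a := hk'K.1.1
  have hGa : k' ∈ MulAction.stabilizer G a := hfix
  have hGa' : k'⁻¹ ∈ MulAction.stabilizer G a := Subgroup.inv_mem _ hGa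
  -- the automorphism of `Q`
  let φ : Q ≃* Q :=
    { toFun := fun r => ⟨k' * r * k'⁻¹, hS.conj_mem k' hGa r r.2⟩
      invFun := fun r => ⟨k'⁻¹ * r * k', by
        have := hS.conj_mem k'⁻¹ hGa' r r.2
        rwa [inv_inv] at this⟩
      left_inv := by
        intro r
        apply Subtype.ext
        show k'⁻¹ * (k' * r * k'⁻¹) * k' = r
        group
      right_inv := by
        intro r
        apply Subtype.ext
        show k' * (k'⁻¹ * r * k') * k'⁻¹ = r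
        group
      map_mul' := by
        intro x y
        apply Subtype.ext
        show k' * ((x : G) * y) * k'⁻¹ = (k' * x * k'⁻¹) * (k' * y * k'⁻¹)
        group }
  have hφ : ∀ r : Q, ((φ r : Q) : G) = k' * r * k'⁻¹ := fun _ => rfl
  have hfpf : MonoidHom.FixedPointFree (φ : Q →* Q) := by
    intro r hr
    apply Subtype.ext
    have h1 : k' * (r : G) * k'⁻¹ = r := congrArg Subtype.val hr
    have h3 : k' * (r : G) = r * k' := by
      rw [mul_inv_eq_iff_eq_mul] at h1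
      exact h1
    exact KK_fpf hS hk'K hk'1 r.2 h3
  have hφpow : ∀ (n : ℕ) (r : Q), (((φ ^ n) r : Q) : G) = k' ^ n * r * (k' ^ n)⁻¹ := by
    intro n r
    induction n with
    | zero => simp
    | succ n ih =>
      rw [pow_succ']
      show ((φ ((φ ^ n) r) : Q) : G) = _
      rw [hφ, ih, pow_succ']
      group
  have hφp : φ ^ p = 1 := by
    ext r
    rw [hφpow, hk'p]
    simp
  have hφ1 : φ ≠ 1 := by
    intro e
    obtain ⟨x, hx, hx1, -⟩ := Q_ne_bot hS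
    have h3 : φ ⟨x, hx⟩ = ⟨x, hx⟩ := by rw [e]; rfl
    have := hfpf ⟨x, hx⟩ h3
    exact hx1 (congrArg Subtype.val this)
  haveI : Fact p.Prime := ⟨hp⟩
  have hord : orderOf φ = p := orderOf_eq_prime hφp hφ1
  exact Cfsg.Agent.S0033.result φ hfpf p hp hord

/-- A central involution of `Q`. -/
theorem exists_central_invol (hS : Cfsg.IsRankOneSetup G Ω a t Q) (hnil : Group.IsNilpotent Q) :
    ∃ z ∈ Q, z ≠ 1 ∧ z * z = 1 ∧ ∀ x ∈ Q, z * x = x * z := by
  classical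
  haveI : Fact (Nat.Prime 2) := ⟨Nat.prime_two⟩
  haveI := hnil
  have htf := (Group.isNilpotent_of_finite_tfae (G := Q)).out 0 3
  have hsyl := htf.mp hnil
  obtain ⟨x₀, hx₀, hx₀1, hx₀2⟩ := Q_ne_bot hS
  have hdvd : 2 ∣ Nat.card Q := even_iff_two_dvd.mp hS.even_card
  let P : Sylow 2 Q := default
  haveI hPn : (P : Subgroup Q).Normal := hsyl 2 ⟨Nat.prime_two⟩ P
  have hPbot : (P : Subgroup Q) ≠ ⊥ := P.ne_bot_of_dvd_card hdvd
  have hm := Cfsg.Agent.S0065.result (P : Subgroup Q) hPbot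
  obtain ⟨z', hz'⟩ := (Subgroup.ne_bot_iff_exists_ne_one).mp hm
  obtain ⟨z, hzP, hzc⟩ := z'
  have hz1 : z ≠ 1 := fun e => hz' (Subtype.ext e)
  -- a power of `z` is an involution
  have hp2 : IsPGroup 2 (P : Subgroup Q) := P.isPGroup'
  obtain ⟨k, hk⟩ := (IsPGroup.iff_orderOf (p := 2)).mp hp2 ⟨z, hzP⟩
  have hk' : orderOf z = 2 ^ k := by
    rw [← hk]
    exact (Subgroup.orderOf_mk z hzP).symm
  have hk0 : k ≠ 0 := by
    rintro rfl
    rw [pow_zero, orderOf_eq_one_iff] at hk'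
    exact hz1 hk'
  obtain ⟨l, rfl⟩ := Nat.exists_eq_succ_of_ne_zero hk0
  set w := z ^ (2 ^ l) with hw
  have hw1 : w ≠ 1 := by
    apply pow_ne_one_of_lt_orderOf
    · positivity
    · rw [hk', pow_succ]
      have : 0 < 2 ^ l := by positivity
      omega
  have hw2 : w * w = 1 := by
    rw [hw, ← pow_add, ← two_mul, ← pow_succ', ← hk', pow_orderOf_eq_one]
  have hwc : w ∈ Subgroup.center Q := Subgroup.pow_mem _ hzc _
  refine ⟨w, w.2, ?_, ?_, ?_⟩
  · exact fun e => hw1 (Subtype.ext e)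
  · exact congrArg Subtype.val hw2
  · intro x hx
    have := (Subgroup.mem_center_iff.mp hwc) ⟨x, hx⟩
    exact (congrArg Subtype.val this).symm

/-- Every involution of `G_a` is central in `Q`. -/
theorem invol_central (hS : Cfsg.IsRankOneSetup G Ω a t Q) (hnil : Group.IsNilpotent Q)
    {s : G} (hs : s ∈ IA G a) : s ∈ Q ∧ ∀ x ∈ Q, s * x = x * s := by
  refine ⟨mem_Q_of_sq hS hs.1 hs.2.2, ?_⟩
  obtain ⟨z, hz, hz1, hz2, hzc⟩ := exists_central_invol hS hnil
  have hzI : z ∈ IA G a := ⟨hS.le hz, hz1, hz2⟩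
  obtain ⟨k, hk, hkc⟩ := exists_K_conj hS hzI hs
  have hka : k ∈ MulAction.stabilizer G a := hk.1.1
  intro x hx
  have hx' : k * x * k⁻¹ ∈ Q := hS.conj_mem k hka x hx
  have e := hzc _ hx'
  rw [← hkc]
  calc k⁻¹ * z * k * x = k⁻¹ * (z * (k * x * k⁻¹)) * k := by group
    _ = k⁻¹ * ((k * x * k⁻¹) * z) * k := by rw [e]
    _ = x * (k⁻¹ * z * k) := by group

/-- The conclusion of S1130 from the nilpotency of `Q`. -/
theorem invol_mul (hS : Cfsg.IsRankOneSetup G Ω a t Q) (hnil : Group.IsNilpotent Q)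
    {s s' : G} (hs : s ∈ IA G a) (hs' : s' ∈ IA G a) : s * s' = s' * s := by
  obtain ⟨h1, h2⟩ := invol_central hS hnil hs
  exact h2 s' (mem_Q_of_sq hS hs'.1 hs'.2.2)

/-- Two involutions with a common fixed point commute. -/
theorem commute_of_common_fix (hS : Cfsg.IsRankOneSetup G Ω a t Q)
    (h2 : ∃ x y : G, x ≠ 1 ∧ y ≠ 1 ∧ x ≠ y ∧ x * x = 1 ∧ y * y = 1 ∧ x * y = y * x)
    {u v : G} (hu1 : u ≠ 1) (hu2 : u * u = 1) (hv1 : v ≠ 1) (hv2 : v * v = 1) {c : Ω}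
    (huc : u • c = c) (hvc : v • c = c) : u * v = v * u := by
  obtain ⟨g, hg⟩ : ∃ g : G, g • a = c := by
    by_cases hca : c = a
    · exact ⟨1, by rw [one_smul, hca]⟩
    obtain ⟨g, hg, -⟩ := two_trans hS (ta_ne hS).symm hca
    exact ⟨g, hg⟩
  have hS' := setup_conj hS g
  rw [hg] at hS'
  have hnil := nilpotent hS' h2
  exact invol_mul hS' hnil ⟨huc, hu1, hu2⟩ ⟨hvc, hv1, hv2⟩

end Cfsg.Agent.Lib.RankOne.Elem
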