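import Mathlib
import Cfsg.Prelude.Def_LieRecognition

/-!
An element `t` with `t² = 1` normalising a subgroup `X` of odd order: each element of `X` is uniquely a
product of an element of `C_X(t)` and an element inverted by `t`.
-/

set_option autoImplicit false

namespace Cfsg.Agent.Lib.RankOne.OddInvert

variable {M : Type*} [Group M]

theorem pow_card_sub {X : Subgroup M} {w : M} (hw : w ∈ X) : w ^ Nat.card X = 1 := by
  have h : ((⟨w, hw⟩ : X) ^ Nat.card X : X) = 1 := pow_card_eq_one'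
  exact congrArg Subtype.val h

/-- Square root in a subgroup of odd order. -/
theorem pow_half_sq {X : Subgroup M} (hodd : Odd (Nat.card X)) {w : M} (hw : w ∈ X) :
    w ^ ((Nat.card X + 1) / 2) * w ^ ((Nat.card X + 1) / 2) = w := by
  obtain ⟨n, hn⟩ := hodd
  have h1 : (Nat.card X + 1) / 2 = n + 1 := by omega
  rw [h1, ← pow_add]
  have h2 : n + 1 + (n + 1) = Nat.card X + 1 := by omega
  rw [h2, pow_succ]
  have h3 : w ^ Nat.card X = 1 := pow_card_sub hw
  rw [h3, one_mul]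

/-- Squaring is injective on a subgroup of odd order. -/
theorem sq_inj {X : Subgroup M} (hodd : Odd (Nat.card X)) {a b : M} (ha : a ∈ X) (hb : b ∈ X)
    (h : a * a = b * b) : a = b := by
  obtain ⟨n, hn⟩ := hodd
  have key : ∀ c ∈ X, c = (c * c) ^ (n + 1) := by
    intro c hc
    have h3 : c ^ Nat.card X = 1 := pow_card_sub hc
    have h5 : (c * c) ^ (n + 1) = c ^ (2 * (n + 1)) := by
      rw [pow_mul, pow_two]
    rw [h5]
    have h6 : 2 * (n + 1) = Nat.card X + 1 := by omega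
    rw [h6, pow_succ, h3, one_mul]
  rw [key a ha, key b hb, h]

/-- An element of a subgroup of odd order squaring to `1` is `1`. -/
theorem eq_one_of_sq {X : Subgroup M} (hodd : Odd (Nat.card X)) {a : M} (ha : a ∈ X)
    (h : a * a = 1) : a = 1 :=
  sq_inj hodd ha (one_mem X) (by simpa using h)

/-- An element of odd order inverting `x`... if `h` has odd order and `h x h⁻¹ = x⁻¹` then `h`
commutes with `x` (hence `x² = 1`). -/
theorem commute_of_inverts {X : Subgroup M} (hodd : Odd (Nat.card X)) {h x : M} (hh : h ∈ X)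
    (e : h * x * h⁻¹ = x⁻¹) : h * x = x * h := by
  have h2 : (h * h) * x * (h * h)⁻¹ = x := by
    calc (h * h) * x * (h * h)⁻¹ = h * (h * x * h⁻¹) * h⁻¹ := by group
      _ = h * x⁻¹ * h⁻¹ := by rw [e]
      _ = (h * x * h⁻¹)⁻¹ := by group
      _ = x := by rw [e]; group
  have h3 : ∀ n : ℕ, (h * h) ^ n * x * ((h * h) ^ n)⁻¹ = x := by
    intro n
    induction n with
    | zero => simp
    | succ n ih =>
      rw [pow_succ]
      calc (h * h) ^ n * (h * h) * x * ((h * h) ^ n * (h * h))⁻¹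
          = (h * h) ^ n * ((h * h) * x * (h * h)⁻¹) * ((h * h) ^ n)⁻¹ := by group
        _ = x := by rw [h2, ih]
  have h4 := h3 ((Nat.card X + 1) / 2)
  have h5 : (h * h) ^ ((Nat.card X + 1) / 2) = h := by
    obtain ⟨n, hn⟩ := hodd
    have h1 : (Nat.card X + 1) / 2 = n + 1 := by omega
    rw [h1]
    have h6 : (h * h) ^ (n + 1) = h ^ (2 * (n + 1)) := by
      rw [pow_mul, pow_two]
    rw [h6]
    have h7 : 2 * (n + 1) = Nat.card X + 1 := by omega
    have h3 : h ^ Nat.card X = 1 := pow_card_sub hh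
    rw [h7, pow_succ, h3, one_mul]
  rw [h5] at h4
  rw [mul_inv_eq_iff_eq_mul] at h4
  exact h4

section Factor

variable {t : M} (ht : t * t = 1) {X : Subgroup M} (hodd : Odd (Nat.card X))
  (hnorm : ∀ x ∈ X, t * x * t⁻¹ ∈ X)

include ht in
theorem t_inv_eq : t⁻¹ = t := inv_eq_of_mul_eq_one_left ht

include ht hodd hnorm in
/-- existence of the factorisation. -/
theorem exists_factor {x : M} (hx : x ∈ X) :
    ∃ y z : M, y ∈ X ∧ t * y = y * t ∧ z ∈ X ∧ t * z * t⁻¹ = z⁻¹ ∧ x = y * z := by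
  have hinv : t⁻¹ = t := t_inv_eq ht
  set w := x⁻¹ * (t * x * t⁻¹) with hw_def
  have hwX : w ∈ X := mul_mem (inv_mem hx) (hnorm x hx)
  have htw : t * w * t⁻¹ = w⁻¹ := by
    rw [hw_def, hinv]
    calc t * (x⁻¹ * (t * x * t)) * t = t * x⁻¹ * t * x * (t * t) := by group
      _ = t * x⁻¹ * t * x := by rw [ht, mul_one]
      _ = t⁻¹ * x⁻¹ * t⁻¹ * x := by rw [hinv]
      _ = _ := by group
  set z := (w⁻¹) ^ ((Nat.card X + 1) / 2) with hz_def
  have hzX : z ∈ X := pow_mem (inv_mem hwX) _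
  have hzz : z * z = w⁻¹ := pow_half_sq hodd (inv_mem hwX)
  have htz : t * z * t⁻¹ = z⁻¹ := by
    have h : t * w⁻¹ * t⁻¹ = w := by
      have h' : t * w⁻¹ * t⁻¹ = (t * w * t⁻¹)⁻¹ := by group
      rw [h', htw, inv_inv]
    rw [hz_def, ← conj_pow, h, inv_pow, inv_inv]
  refine ⟨x * z⁻¹, z, mul_mem hx (inv_mem hzX), ?_, hzX, htz, by group⟩
  -- `t (x z⁻¹) t⁻¹ = x z⁻¹`
  have h1 : t * (x * z⁻¹) * t⁻¹ = x * z⁻¹ := by
    calc t * (x * z⁻¹) * t⁻¹ = (t * x * t⁻¹) * (t * z⁻¹ * t⁻¹) := by group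
      _ = (t * x * t⁻¹) * (t * z * t⁻¹)⁻¹ := by group
      _ = (x * w) * z := by rw [htz, inv_inv, hw_def]; group
      _ = x * (z⁻¹ * z⁻¹) * z := by
        have : w = z⁻¹ * z⁻¹ := by
          rw [← mul_inv_rev, hzz, inv_inv]
        rw [this]
      _ = x * z⁻¹ := by group
  rw [mul_inv_eq_iff_eq_mul] at h1
  exact h1

include hodd in
/-- uniqueness of the factorisation. -/
theorem factor_unique {y z y' z' : M} (hy : t * y = y * t) (hz : z ∈ X)
    (htz : t * z * t⁻¹ = z⁻¹) (hy' : t * y' = y' * t) (hz' : z' ∈ X) (htz' : t * z' * t⁻¹ = z'⁻¹)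
    (e : y * z = y' * z') : y = y' ∧ z = z' := by
  have key : ∀ u v : M, t * u = u * t → t * v * t⁻¹ = v⁻¹ →
      (u * v)⁻¹ * (t * (u * v) * t⁻¹) = (v⁻¹) * (v⁻¹) := by
    intro u v hu hv
    have h1 : t * (u * v) * t⁻¹ = u * v⁻¹ := by
      calc t * (u * v) * t⁻¹ = (t * u) * v * t⁻¹ := by group
        _ = u * (t * v * t⁻¹) := by rw [hu]; group
        _ = u * v⁻¹ := by rw [hv]
    rw [h1]; group
  have h1 := key y z hy htz
  have h2 := key y' z' hy' htz'
  rw [e] at h1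
  rw [h1] at h2
  have h3 : z⁻¹ = z'⁻¹ := sq_inj hodd (inv_mem hz) (inv_mem hz') h2
  have h4 : z = z' := inv_injective h3
  subst h4
  exact ⟨mul_right_cancel e, rfl⟩

end Factor

end Cfsg.Agent.Lib.RankOne.OddInvert
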